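import Mathlib
import Cfsg.Agent.Characters.CentralCharacter
import Cfsg.Agent.ClassicalGeometry.SympAutCentral
import Cfsg.Agent.ClassicalGeometry.AutPSpCount

/-!
# The class of a transvection in `PSp(2m, q)`, `q` odd, has size `(q ^ (2m) - 1) / 2` (S3677, helper977)
-/

set_option autoImplicit false

namespace Cfsg.Agent.H977.SepBC

open Cfsg Cfsg.Agent.ClassicalGeometry.SympBasic Cfsg.Agent.ClassicalGeometry.SympAutSylow
open Cfsg.Agent.ClassicalGeometry.SympSiegel Cfsg.Agent.ClassicalGeometry.SympAutCentral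
open Cfsg.Agent.ClassicalGeometry.AutPSpCount
open scoped Matrix

variable {F : Type*} [Field F] {m : ℕ}

theorem isConj_transv {v w : Fin m ⊕ Fin m → F} (hv : v ≠ 0) (hw : w ≠ 0) :
    IsConj (QuotientGroup.mk (transv v 1) : PSp m F) (QuotientGroup.mk (transv w 1)) := by
  obtain ⟨g, -, hg⟩ := exists_transvGroup_mulVec_eq hv hw
  have h : IsConj (transv v 1 : Matrix.symplecticGroup (Fin m) F) (transv w 1) := by
    rw [isConj_iff]
    refine ⟨g, ?_⟩
    rw [conj_transv]
    congr 1
  exact (QuotientGroup.mk' (Subgroup.center (Matrix.symplecticGroup (Fin m) F))).map_isConj h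

theorem mk_transv_neg (w : Fin m ⊕ Fin m → F) :
    (QuotientGroup.mk (transv (-w) 1) : PSp m F) = QuotientGroup.mk (transv w 1) := by
  rw [mk_eq_mk_iff]
  refine ⟨1, one_mul _, fun v => ?_⟩
  rw [transv_smul, transv_smul, one_smul, sympForm_neg_right]
  simp

theorem two_mul_card_class [Finite F] (hm : 2 ≤ m) (h2 : (2 : F) ≠ 0) {v : Fin m ⊕ Fin m → F} (hv : v ≠ 0) :
    2 * Nat.card {z : PSp m F // IsConj (QuotientGroup.mk (transv v 1) : PSp m F) z} = Nat.card F ^ (2 * m) - 1 := by
  classical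
  have := Fintype.ofFinite F
  obtain ⟨φ, hφ⟩ : ∃ φ : {w : Fin m ⊕ Fin m → F // w ≠ 0} →
      {z : PSp m F // IsConj (QuotientGroup.mk (transv v 1) : PSp m F) z},
      ∀ w, (φ w : PSp m F) = QuotientGroup.mk (transv w.1 1) :=
    ⟨fun w => ⟨QuotientGroup.mk (transv w.1 1), isConj_transv hv w.2⟩, fun w => rfl⟩
  have hfib : ∀ z, Nat.card {w // φ w = z} = 2 := by
    rintro z
    obtain ⟨x, hx⟩ := isConj_iff.1 z.2
    obtain ⟨w, hw, e⟩ := exists_conj_mk_transv x hv 1
    rw [hx] at e
    rw [Nat.card_eq_two_iff]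
    refine ⟨⟨⟨w, hw⟩, ?_⟩, ⟨⟨-w, neg_ne_zero.2 hw⟩, ?_⟩, ?_, ?_⟩
    · apply Subtype.ext
      rw [hφ, e]
    · apply Subtype.ext
      rw [hφ, e, mk_transv_neg]
    · intro h
      have h1 : w = -w := congrArg (fun y : {w // φ w = z} => y.1.1) h
      apply hw
      have h3 : (2 : F) • w = 0 := by
        rw [two_smul]
        nth_rewrite 2 [h1]
        exact add_neg_cancel w
      exact (smul_eq_zero.1 h3).resolve_left h2
    · rw [Set.eq_univ_iff_forall]
      rintro ⟨⟨y, hy⟩, hyz⟩
      have h1 : (QuotientGroup.mk (transv y 1) : PSp m F) = QuotientGroup.mk (transv w 1) := by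
        rw [← e, ← hyz, hφ]
      obtain ⟨a, ha, haa⟩ := mk_transv_eq hm hy one_ne_zero h1
      have haa' : a * a = 1 := by rw [← haa]; ring
      rcases mul_self_eq_one_iff.1 haa' with h | h
      · left
        apply Subtype.ext
        apply Subtype.ext
        change y = w
        rw [ha, h, one_smul]
      · right
        apply Subtype.ext
        apply Subtype.ext
        change y = -w
        rw [ha, h, neg_smul, one_smul]
  have := Fintype.ofFinite {z : PSp m F // IsConj (QuotientGroup.mk (transv v 1) : PSp m F) z}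
  have h1 := Nat.card_congr (Equiv.sigmaFiberEquiv φ)
  rw [Nat.card_sigma, Finset.sum_congr rfl (fun z _ => hfib z), Finset.sum_const, Finset.card_univ,
    ← Nat.card_eq_fintype_card, smul_eq_mul, mul_comm] at h1
  rw [h1]
  have h3 : Nat.card {w : Fin m ⊕ Fin m → F // w ≠ 0} = Nat.card (Fin m ⊕ Fin m → F) - 1 := by
    rw [Nat.card_eq_fintype_card, Nat.card_eq_fintype_card, Fintype.card_subtype_compl, Fintype.card_subtype_eq]
  rw [h3, Nat.card_fun, Nat.card_sum, Nat.card_fin, two_mul]

end Cfsg.Agent.H977.SepBC
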